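import Cfsg.Agent.Lib.ChevCol.Basic
import Cfsg.Agent.Lib.Chev.TwD4

/-!
# Identities in `D₄`, characteristic two
-/

namespace Cfsg.Agent.Lib.TwStem.D4.Col2

open Cfsg.Lie Matrix
open Cfsg.Agent.Lib.Chev
open Cfsg.Agent.Lib.Chev.TwD4 (hF)
open Cfsg.Agent.Lib.Chev.Col

variable {K : Type*} [Field K]

/-- an order for the collector -/
def keyO (r : ℕ) : ℕ := ([100, 101, 102, 103, 104, 105, 106, 107, 108, 109, 110, 111, 2, 1, 3, 6, 5, 8, 0, 4, 9, 7, 10, 11] : List ℕ).getD r 0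

theorem colT (h2 : (2 : K) = 0) {w w' : PW} (h : eqW 2 (run chevD4 2 keyO 600 w) (run chevD4 2 keyO 600 w') = true)
    (v : ℕ → K) : evW hF v w = evW hF v w' := by
  have h0 : ((2 : ℕ) : K) = 0 := by exact_mod_cast h2
  rw [← evW_run hF v h0 (key := keyO) 600 w, ← evW_run hF v h0 (key := keyO) 600 w']
  exact evW_eqW hF v h0 h

theorem id_I1 (h2 : (2 : K) = 0) (s0 s1 s2 u0 u1 u2 : K) :
    hF.c.xG 19 (s0) * (hF.c.xG 16 (s1) * (hF.c.xG 15 (s2) * (hF.c.xG 21 (u0) * (hF.c.xG 17 (u1) * (hF.c.xG 20 (u2) * (hF.c.xG 15 (s2) * (hF.c.xG 16 (s1) * (hF.c.xG 19 (s0) * (hF.c.xG 20 (u2) * (hF.c.xG 17 (u1) * (hF.c.xG 21 (u0)))))))))))) =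
      hF.c.xG 23 (s0 * u1 + (s1 * u2 + s2 * u0)) := by
  have h := colT h2 (K := K) (w := [(19,[(1,[0])]),(16,[(1,[1])]),(15,[(1,[2])]),(21,[(1,[3])]),(17,[(1,[4])]),(20,[(1,[5])]),(15,[(1,[2])]),(16,[(1,[1])]),(19,[(1,[0])]),(20,[(1,[5])]),(17,[(1,[4])]),(21,[(1,[3])])]) (w' := [(23,[(1,[0, 4]),(1,[1, 5]),(1,[2, 3])])]) (by decide +kernel) (fun i => [s0,s1,s2,u0,u1,u2].getD i 0)
  simpa [evW, ev, evM, Checks.wordG_cons, Checks.wordG_nil] using h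

theorem id_I2 (h2 : (2 : K) = 0) (t0 t1 t2 : K) :
    hF.c.xG 18 (t0) * (hF.c.xG 13 (t1) * (hF.c.xG 12 (t2) * (hF.c.xG 14 (1) * (hF.c.xG 12 (t2) * (hF.c.xG 13 (t1) * (hF.c.xG 18 (t0) * (hF.c.xG 14 (1)))))))) =
      hF.c.xG 19 (t0) * (hF.c.xG 16 (t1) * (hF.c.xG 15 (t2) * (hF.c.xG 21 (t0 * t1) * (hF.c.xG 17 (t1 * t2) * (hF.c.xG 20 (t0 * t2) * (hF.c.xG 22 (t0 * (t1 * t2)))))))) := by
  have h := colT h2 (K := K) (w := [(18,[(1,[0])]),(13,[(1,[1])]),(12,[(1,[2])]),(14,[(1,[])]),(12,[(1,[2])]),(13,[(1,[1])]),(18,[(1,[0])]),(14,[(1,[])])]) (w' := [(19,[(1,[0])]),(16,[(1,[1])]),(15,[(1,[2])]),(21,[(1,[0, 1])]),(17,[(1,[1, 2])]),(20,[(1,[0, 2])]),(22,[(1,[0, 1, 2])])]) (by decide +kernel) (fun i => [t0,t1,t2].getD i 0)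
  simpa [evW, ev, evM, Checks.wordG_cons, Checks.wordG_nil] using h

theorem id_add0 (h2 : (2 : K) = 0) (a0 a1 a2 b0 b1 b2 : K) :
    hF.c.xG 18 (a0) * (hF.c.xG 13 (a1) * (hF.c.xG 12 (a2) * (hF.c.xG 18 (b0) * (hF.c.xG 13 (b1) * (hF.c.xG 12 (b2)))))) =
      hF.c.xG 18 (a0 + b0) * (hF.c.xG 13 (a1 + b1) * (hF.c.xG 12 (a2 + b2))) := by
  have h := colT h2 (K := K) (w := [(18,[(1,[0])]),(13,[(1,[1])]),(12,[(1,[2])]),(18,[(1,[3])]),(13,[(1,[4])]),(12,[(1,[5])])]) (w' := [(18,[(1,[0]),(1,[3])]),(13,[(1,[1]),(1,[4])]),(12,[(1,[2]),(1,[5])])]) (by decide +kernel) (fun i => [a0,a1,a2,b0,b1,b2].getD i 0)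
  simpa [evW, ev, evM, Checks.wordG_cons, Checks.wordG_nil] using h

theorem id_add2 (h2 : (2 : K) = 0) (a0 a1 a2 b0 b1 b2 : K) :
    hF.c.xG 19 (a0) * (hF.c.xG 16 (a1) * (hF.c.xG 15 (a2) * (hF.c.xG 19 (b0) * (hF.c.xG 16 (b1) * (hF.c.xG 15 (b2)))))) =
      hF.c.xG 19 (a0 + b0) * (hF.c.xG 16 (a1 + b1) * (hF.c.xG 15 (a2 + b2))) := by
  have h := colT h2 (K := K) (w := [(19,[(1,[0])]),(16,[(1,[1])]),(15,[(1,[2])]),(19,[(1,[3])]),(16,[(1,[4])]),(15,[(1,[5])])]) (w' := [(19,[(1,[0]),(1,[3])]),(16,[(1,[1]),(1,[4])]),(15,[(1,[2]),(1,[5])])]) (by decide +kernel) (fun i => [a0,a1,a2,b0,b1,b2].getD i 0)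
  simpa [evW, ev, evM, Checks.wordG_cons, Checks.wordG_nil] using h

end Cfsg.Agent.Lib.TwStem.D4.Col2
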